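import Cfsg.Agent.Lib.KnownSimple.Sz8Lab.Data

set_option autoImplicit false
set_option maxRecDepth 100000

namespace Cfsg.Agent.Lib.KnownSimple.Sz8Lab

open Cfsg.Agent.Lib.KnownSimple.Lab Cfsg.Agent.Lib.KnownSimple.Sz8Lab Dat

theorem hL0c0_c0 : allI (fun i => lowOK D.T lN0 2 0 wr0 i) 0 2240 = true := by decide +kernel
theorem hL0c0_u0 : ∀ i, i < 2240 → (fun i => lowOK D.T lN0 2 0 wr0 i) i = true :=
  allI_join allI_start hL0c0_c0 rfl
theorem hL0c0 : ∀ i, i < 2240 → (fun i => lowOK D.T lN0 2 0 wr0 i) i = true := hL0c0_u0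
theorem hL0c1_c0 : allI (fun i => lowOK D.T lN1 2 0 wr0 i) 0 2240 = true := by decide +kernel
theorem hL0c1_u0 : ∀ i, i < 2240 → (fun i => lowOK D.T lN1 2 0 wr0 i) i = true :=
  allI_join allI_start hL0c1_c0 rfl
theorem hL0c1 : ∀ i, i < 2240 → (fun i => lowOK D.T lN1 2 0 wr0 i) i = true := hL0c1_u0
theorem hL1c0_c0 : allI (fun i => lowOK D.T lN0 2 0 wr1 i) 0 2240 = true := by decide +kernel
theorem hL1c0_u0 : ∀ i, i < 2240 → (fun i => lowOK D.T lN0 2 0 wr1 i) i = true :=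
  allI_join allI_start hL1c0_c0 rfl
theorem hL1c0 : ∀ i, i < 2240 → (fun i => lowOK D.T lN0 2 0 wr1 i) i = true := hL1c0_u0
theorem hL1c1_c0 : allI (fun i => lowOK D.T lN1 2 0 wr1 i) 0 2240 = true := by decide +kernel
theorem hL1c1_u0 : ∀ i, i < 2240 → (fun i => lowOK D.T lN1 2 0 wr1 i) i = true :=
  allI_join allI_start hL1c1_c0 rfl
theorem hL1c1 : ∀ i, i < 2240 → (fun i => lowOK D.T lN1 2 0 wr1 i) i = true := hL1c1_u0
theorem hL2c0_c0 : allI (fun i => lowOK D.T lN0 2 0 wr2 i) 0 2240 = true := by decide +kernel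
theorem hL2c0_u0 : ∀ i, i < 2240 → (fun i => lowOK D.T lN0 2 0 wr2 i) i = true :=
  allI_join allI_start hL2c0_c0 rfl
theorem hL2c0 : ∀ i, i < 2240 → (fun i => lowOK D.T lN0 2 0 wr2 i) i = true := hL2c0_u0
theorem hL2c1_c0 : allI (fun i => lowOK D.T lN1 2 0 wr2 i) 0 2240 = true := by decide +kernel
theorem hL2c1_u0 : ∀ i, i < 2240 → (fun i => lowOK D.T lN1 2 0 wr2 i) i = true :=
  allI_join allI_start hL2c1_c0 rfl
theorem hL2c1 : ∀ i, i < 2240 → (fun i => lowOK D.T lN1 2 0 wr2 i) i = true := hL2c1_u0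
theorem hL3c0_c0 : allI (fun i => lowOK D.T lN0 2 0 wr3 i) 0 2240 = true := by decide +kernel
theorem hL3c0_u0 : ∀ i, i < 2240 → (fun i => lowOK D.T lN0 2 0 wr3 i) i = true :=
  allI_join allI_start hL3c0_c0 rfl
theorem hL3c0 : ∀ i, i < 2240 → (fun i => lowOK D.T lN0 2 0 wr3 i) i = true := hL3c0_u0
theorem hL3c1_c0 : allI (fun i => lowOK D.T lN1 2 0 wr3 i) 0 2240 = true := by decide +kernel
theorem hL3c1_u0 : ∀ i, i < 2240 → (fun i => lowOK D.T lN1 2 0 wr3 i) i = true :=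
  allI_join allI_start hL3c1_c0 rfl
theorem hL3c1 : ∀ i, i < 2240 → (fun i => lowOK D.T lN1 2 0 wr3 i) i = true := hL3c1_u0
theorem hL4c0_c0 : allI (fun i => lowOK D.T lN0 2 0 wr4 i) 0 2240 = true := by decide +kernel
theorem hL4c0_u0 : ∀ i, i < 2240 → (fun i => lowOK D.T lN0 2 0 wr4 i) i = true :=
  allI_join allI_start hL4c0_c0 rfl
theorem hL4c0 : ∀ i, i < 2240 → (fun i => lowOK D.T lN0 2 0 wr4 i) i = true := hL4c0_u0
theorem hL4c1_c0 : allI (fun i => lowOK D.T lN1 2 0 wr4 i) 0 2240 = true := by decide +kernel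
theorem hL4c1_u0 : ∀ i, i < 2240 → (fun i => lowOK D.T lN1 2 0 wr4 i) i = true :=
  allI_join allI_start hL4c1_c0 rfl
theorem hL4c1 : ∀ i, i < 2240 → (fun i => lowOK D.T lN1 2 0 wr4 i) i = true := hL4c1_u0
theorem hL5c0_c0 : allI (fun i => lowOK D.T lN0 2 1 wr5 i) 0 2240 = true := by decide +kernel
theorem hL5c0_u0 : ∀ i, i < 2240 → (fun i => lowOK D.T lN0 2 1 wr5 i) i = true :=
  allI_join allI_start hL5c0_c0 rfl
theorem hL5c0 : ∀ i, i < 2240 → (fun i => lowOK D.T lN0 2 1 wr5 i) i = true := hL5c0_u0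
theorem hL5c1_c0 : allI (fun i => lowOK D.T lN1 2 1 wr5 i) 0 2240 = true := by decide +kernel
theorem hL5c1_u0 : ∀ i, i < 2240 → (fun i => lowOK D.T lN1 2 1 wr5 i) i = true :=
  allI_join allI_start hL5c1_c0 rfl
theorem hL5c1 : ∀ i, i < 2240 → (fun i => lowOK D.T lN1 2 1 wr5 i) i = true := hL5c1_u0
theorem hL6c0_c0 : allI (fun i => lowOK D.T lN0 2 1 wr6 i) 0 2240 = true := by decide +kernel
theorem hL6c0_u0 : ∀ i, i < 2240 → (fun i => lowOK D.T lN0 2 1 wr6 i) i = true :=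
  allI_join allI_start hL6c0_c0 rfl
theorem hL6c0 : ∀ i, i < 2240 → (fun i => lowOK D.T lN0 2 1 wr6 i) i = true := hL6c0_u0
theorem hL6c1_c0 : allI (fun i => lowOK D.T lN1 2 0 wr6 i) 0 2240 = true := by decide +kernel
theorem hL6c1_u0 : ∀ i, i < 2240 → (fun i => lowOK D.T lN1 2 0 wr6 i) i = true :=
  allI_join allI_start hL6c1_c0 rfl
theorem hL6c1 : ∀ i, i < 2240 → (fun i => lowOK D.T lN1 2 0 wr6 i) i = true := hL6c1_u0
theorem hL7c0_c0 : allI (fun i => lowOK D.T lN0 2 1 wr7 i) 0 2240 = true := by decide +kernel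
theorem hL7c0_u0 : ∀ i, i < 2240 → (fun i => lowOK D.T lN0 2 1 wr7 i) i = true :=
  allI_join allI_start hL7c0_c0 rfl
theorem hL7c0 : ∀ i, i < 2240 → (fun i => lowOK D.T lN0 2 1 wr7 i) i = true := hL7c0_u0
theorem hL7c1_c0 : allI (fun i => lowOK D.T lN1 2 1 wr7 i) 0 2240 = true := by decide +kernel
theorem hL7c1_u0 : ∀ i, i < 2240 → (fun i => lowOK D.T lN1 2 1 wr7 i) i = true :=
  allI_join allI_start hL7c1_c0 rfl
theorem hL7c1 : ∀ i, i < 2240 → (fun i => lowOK D.T lN1 2 1 wr7 i) i = true := hL7c1_u0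
theorem hL8c0_c0 : allI (fun i => lowOK D.T lN0 2 0 wr8 i) 0 2240 = true := by decide +kernel
theorem hL8c0_u0 : ∀ i, i < 2240 → (fun i => lowOK D.T lN0 2 0 wr8 i) i = true :=
  allI_join allI_start hL8c0_c0 rfl
theorem hL8c0 : ∀ i, i < 2240 → (fun i => lowOK D.T lN0 2 0 wr8 i) i = true := hL8c0_u0
theorem hL8c1_c0 : allI (fun i => lowOK D.T lN1 2 0 wr8 i) 0 2240 = true := by decide +kernel
theorem hL8c1_u0 : ∀ i, i < 2240 → (fun i => lowOK D.T lN1 2 0 wr8 i) i = true :=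
  allI_join allI_start hL8c1_c0 rfl
theorem hL8c1 : ∀ i, i < 2240 → (fun i => lowOK D.T lN1 2 0 wr8 i) i = true := hL8c1_u0
theorem hL9c0_c0 : allI (fun i => lowOK D.T lN0 2 0 wr9 i) 0 2240 = true := by decide +kernel
theorem hL9c0_u0 : ∀ i, i < 2240 → (fun i => lowOK D.T lN0 2 0 wr9 i) i = true :=
  allI_join allI_start hL9c0_c0 rfl
theorem hL9c0 : ∀ i, i < 2240 → (fun i => lowOK D.T lN0 2 0 wr9 i) i = true := hL9c0_u0
theorem hL9c1_c0 : allI (fun i => lowOK D.T lN1 2 0 wr9 i) 0 2240 = true := by decide +kernel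
theorem hL9c1_u0 : ∀ i, i < 2240 → (fun i => lowOK D.T lN1 2 0 wr9 i) i = true :=
  allI_join allI_start hL9c1_c0 rfl
theorem hL9c1 : ∀ i, i < 2240 → (fun i => lowOK D.T lN1 2 0 wr9 i) i = true := hL9c1_u0
theorem hL10c0_c0 : allI (fun i => lowOK D.T lN0 2 0 wr10 i) 0 2240 = true := by decide +kernel
theorem hL10c0_u0 : ∀ i, i < 2240 → (fun i => lowOK D.T lN0 2 0 wr10 i) i = true :=
  allI_join allI_start hL10c0_c0 rfl
theorem hL10c0 : ∀ i, i < 2240 → (fun i => lowOK D.T lN0 2 0 wr10 i) i = true := hL10c0_u0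
theorem hL10c1_c0 : allI (fun i => lowOK D.T lN1 2 0 wr10 i) 0 2240 = true := by decide +kernel
theorem hL10c1_u0 : ∀ i, i < 2240 → (fun i => lowOK D.T lN1 2 0 wr10 i) i = true :=
  allI_join allI_start hL10c1_c0 rfl
theorem hL10c1 : ∀ i, i < 2240 → (fun i => lowOK D.T lN1 2 0 wr10 i) i = true := hL10c1_u0
theorem hLUc0_c0 : allI (fun i => lowOK D.T lN0 2 0 wU i) 0 2240 = true := by decide +kernel
theorem hLUc0_u0 : ∀ i, i < 2240 → (fun i => lowOK D.T lN0 2 0 wU i) i = true :=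
  allI_join allI_start hLUc0_c0 rfl
theorem hLUc0 : ∀ i, i < 2240 → (fun i => lowOK D.T lN0 2 0 wU i) i = true := hLUc0_u0
theorem hLUc1_c0 : allI (fun i => lowOK D.T lN1 2 0 wU i) 0 2240 = true := by decide +kernel
theorem hLUc1_u0 : ∀ i, i < 2240 → (fun i => lowOK D.T lN1 2 0 wU i) i = true :=
  allI_join allI_start hLUc1_c0 rfl
theorem hLUc1 : ∀ i, i < 2240 → (fun i => lowOK D.T lN1 2 0 wU i) i = true := hLUc1_u0
theorem hLVc0_c0 : allI (fun i => lowOK D.T lN0 2 0 wV i) 0 2240 = true := by decide +kernel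
theorem hLVc0_u0 : ∀ i, i < 2240 → (fun i => lowOK D.T lN0 2 0 wV i) i = true :=
  allI_join allI_start hLVc0_c0 rfl
theorem hLVc0 : ∀ i, i < 2240 → (fun i => lowOK D.T lN0 2 0 wV i) i = true := hLVc0_u0
theorem hLVc1_c0 : allI (fun i => lowOK D.T lN1 2 0 wV i) 0 2240 = true := by decide +kernel
theorem hLVc1_u0 : ∀ i, i < 2240 → (fun i => lowOK D.T lN1 2 0 wV i) i = true :=
  allI_join allI_start hLVc1_c0 rfl
theorem hLVc1 : ∀ i, i < 2240 → (fun i => lowOK D.T lN1 2 0 wV i) i = true := hLVc1_u0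
theorem hLKc0_c0 : allI (fun i => lowOK D.T lN0 2 0 w3 i) 0 2240 = true := by decide +kernel
theorem hLKc0_u0 : ∀ i, i < 2240 → (fun i => lowOK D.T lN0 2 0 w3 i) i = true :=
  allI_join allI_start hLKc0_c0 rfl
theorem hLKc0 : ∀ i, i < 2240 → (fun i => lowOK D.T lN0 2 0 w3 i) i = true := hLKc0_u0
theorem hLKc1_c0 : allI (fun i => lowOK D.T lN1 2 0 w3 i) 0 2240 = true := by decide +kernel
theorem hLKc1_u0 : ∀ i, i < 2240 → (fun i => lowOK D.T lN1 2 0 w3 i) i = true :=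
  allI_join allI_start hLKc1_c0 rfl
theorem hLKc1 : ∀ i, i < 2240 → (fun i => lowOK D.T lN1 2 0 w3 i) i = true := hLKc1_u0
theorem hLP4c0_c0 : allI (fun i => lowOK D.T lN0 2 0 pw4 i) 0 2240 = true := by decide +kernel
theorem hLP4c0_u0 : ∀ i, i < 2240 → (fun i => lowOK D.T lN0 2 0 pw4 i) i = true :=
  allI_join allI_start hLP4c0_c0 rfl
theorem hLP4c0 : ∀ i, i < 2240 → (fun i => lowOK D.T lN0 2 0 pw4 i) i = true := hLP4c0_u0
theorem hLP4c1_c0 : allI (fun i => lowOK D.T lN1 2 0 pw4 i) 0 2240 = true := by decide +kernel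
theorem hLP4c1_u0 : ∀ i, i < 2240 → (fun i => lowOK D.T lN1 2 0 pw4 i) i = true :=
  allI_join allI_start hLP4c1_c0 rfl
theorem hLP4c1 : ∀ i, i < 2240 → (fun i => lowOK D.T lN1 2 0 pw4 i) i = true := hLP4c1_u0
theorem hLP5c0_c0 : allI (fun i => lowOK D.T lN0 2 0 pw5 i) 0 2240 = true := by decide +kernel
theorem hLP5c0_u0 : ∀ i, i < 2240 → (fun i => lowOK D.T lN0 2 0 pw5 i) i = true :=
  allI_join allI_start hLP5c0_c0 rfl
theorem hLP5c0 : ∀ i, i < 2240 → (fun i => lowOK D.T lN0 2 0 pw5 i) i = true := hLP5c0_u0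
theorem hLP5c1_c0 : allI (fun i => lowOK D.T lN1 2 1 pw5 i) 0 2240 = true := by decide +kernel
theorem hLP5c1_u0 : ∀ i, i < 2240 → (fun i => lowOK D.T lN1 2 1 pw5 i) i = true :=
  allI_join allI_start hLP5c1_c0 rfl
theorem hLP5c1 : ∀ i, i < 2240 → (fun i => lowOK D.T lN1 2 1 pw5 i) i = true := hLP5c1_u0
theorem hLP6c0_c0 : allI (fun i => lowOK D.T lN0 2 1 pw6 i) 0 2240 = true := by decide +kernel
theorem hLP6c0_u0 : ∀ i, i < 2240 → (fun i => lowOK D.T lN0 2 1 pw6 i) i = true :=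
  allI_join allI_start hLP6c0_c0 rfl
theorem hLP6c0 : ∀ i, i < 2240 → (fun i => lowOK D.T lN0 2 1 pw6 i) i = true := hLP6c0_u0
theorem hLP6c1_c0 : allI (fun i => lowOK D.T lN1 2 1 pw6 i) 0 2240 = true := by decide +kernel
theorem hLP6c1_u0 : ∀ i, i < 2240 → (fun i => lowOK D.T lN1 2 1 pw6 i) i = true :=
  allI_join allI_start hLP6c1_c0 rfl
theorem hLP6c1 : ∀ i, i < 2240 → (fun i => lowOK D.T lN1 2 1 pw6 i) i = true := hLP6c1_u0
theorem hLP7c0_c0 : allI (fun i => lowOK D.T lN0 2 0 pw7 i) 0 2240 = true := by decide +kernel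
theorem hLP7c0_u0 : ∀ i, i < 2240 → (fun i => lowOK D.T lN0 2 0 pw7 i) i = true :=
  allI_join allI_start hLP7c0_c0 rfl
theorem hLP7c0 : ∀ i, i < 2240 → (fun i => lowOK D.T lN0 2 0 pw7 i) i = true := hLP7c0_u0
theorem hLP7c1_c0 : allI (fun i => lowOK D.T lN1 2 1 pw7 i) 0 2240 = true := by decide +kernel
theorem hLP7c1_u0 : ∀ i, i < 2240 → (fun i => lowOK D.T lN1 2 1 pw7 i) i = true :=
  allI_join allI_start hLP7c1_c0 rfl
theorem hLP7c1 : ∀ i, i < 2240 → (fun i => lowOK D.T lN1 2 1 pw7 i) i = true := hLP7c1_u0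
theorem hLP8c0_c0 : allI (fun i => lowOK D.T lN0 2 1 pw8 i) 0 2240 = true := by decide +kernel
theorem hLP8c0_u0 : ∀ i, i < 2240 → (fun i => lowOK D.T lN0 2 1 pw8 i) i = true :=
  allI_join allI_start hLP8c0_c0 rfl
theorem hLP8c0 : ∀ i, i < 2240 → (fun i => lowOK D.T lN0 2 1 pw8 i) i = true := hLP8c0_u0
theorem hLP8c1_c0 : allI (fun i => lowOK D.T lN1 2 1 pw8 i) 0 2240 = true := by decide +kernel
theorem hLP8c1_u0 : ∀ i, i < 2240 → (fun i => lowOK D.T lN1 2 1 pw8 i) i = true :=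
  allI_join allI_start hLP8c1_c0 rfl
theorem hLP8c1 : ∀ i, i < 2240 → (fun i => lowOK D.T lN1 2 1 pw8 i) i = true := hLP8c1_u0
theorem hLP9c0_c0 : allI (fun i => lowOK D.T lN0 2 0 pw9 i) 0 2240 = true := by decide +kernel
theorem hLP9c0_u0 : ∀ i, i < 2240 → (fun i => lowOK D.T lN0 2 0 pw9 i) i = true :=
  allI_join allI_start hLP9c0_c0 rfl
theorem hLP9c0 : ∀ i, i < 2240 → (fun i => lowOK D.T lN0 2 0 pw9 i) i = true := hLP9c0_u0
theorem hLP9c1_c0 : allI (fun i => lowOK D.T lN1 2 1 pw9 i) 0 2240 = true := by decide +kernel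
theorem hLP9c1_u0 : ∀ i, i < 2240 → (fun i => lowOK D.T lN1 2 1 pw9 i) i = true :=
  allI_join allI_start hLP9c1_c0 rfl
theorem hLP9c1 : ∀ i, i < 2240 → (fun i => lowOK D.T lN1 2 1 pw9 i) i = true := hLP9c1_u0
theorem hLP10c0_c0 : allI (fun i => lowOK D.T lN0 2 0 pw10 i) 0 2240 = true := by decide +kernel
theorem hLP10c0_u0 : ∀ i, i < 2240 → (fun i => lowOK D.T lN0 2 0 pw10 i) i = true :=
  allI_join allI_start hLP10c0_c0 rfl
theorem hLP10c0 : ∀ i, i < 2240 → (fun i => lowOK D.T lN0 2 0 pw10 i) i = true := hLP10c0_u0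
theorem hLP10c1_c0 : allI (fun i => lowOK D.T lN1 2 1 pw10 i) 0 2240 = true := by decide +kernel
theorem hLP10c1_u0 : ∀ i, i < 2240 → (fun i => lowOK D.T lN1 2 1 pw10 i) i = true :=
  allI_join allI_start hLP10c1_c0 rfl
theorem hLP10c1 : ∀ i, i < 2240 → (fun i => lowOK D.T lN1 2 1 pw10 i) i = true := hLP10c1_u0
theorem hLP11c0_c0 : allI (fun i => lowOK D.T lN0 2 1 pw11 i) 0 2240 = true := by decide +kernel
theorem hLP11c0_u0 : ∀ i, i < 2240 → (fun i => lowOK D.T lN0 2 1 pw11 i) i = true :=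
  allI_join allI_start hLP11c0_c0 rfl
theorem hLP11c0 : ∀ i, i < 2240 → (fun i => lowOK D.T lN0 2 1 pw11 i) i = true := hLP11c0_u0
theorem hLP11c1_c0 : allI (fun i => lowOK D.T lN1 2 1 pw11 i) 0 2240 = true := by decide +kernel
theorem hLP11c1_u0 : ∀ i, i < 2240 → (fun i => lowOK D.T lN1 2 1 pw11 i) i = true :=
  allI_join allI_start hLP11c1_c0 rfl
theorem hLP11c1 : ∀ i, i < 2240 → (fun i => lowOK D.T lN1 2 1 pw11 i) i = true := hLP11c1_u0

end Cfsg.Agent.Lib.KnownSimple.Sz8Lab
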